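import Cfsg.Agent.H380.RC.EStmt
import Cfsg.Agent.ClassicalGeometry.HermOrtho

/-!
# S3510, family E, box E8: the small pieces P2, P3, P4 (helper743)
-/

set_option autoImplicit false

namespace Cfsg.Agent.H743.RC

open Module Cfsg Cfsg.Agent.H380.RC Cfsg.Agent.LieClassical.HermBasic Cfsg.Agent.ClassicalGeometry.HermOrtho Polynomial

section Root

variable {F : Type*} [Field F] [Fintype F] {q : ℕ}

theorem mem_range_of_pow {K : Type*} [Field K] [Algebra F K] {x : K} (hx : x ^ Fintype.card F = x) :
    ∃ y : F, algebraMap F K y = x := by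
  classical
  by_contra hcon
  push Not at hcon
  have h1 : 1 < Fintype.card F := Fintype.one_lt_card
  have hne : (X ^ Fintype.card F - X : K[X]) ≠ 0 := FiniteField.X_pow_card_sub_X_ne_zero K h1
  have hdeg : (X ^ Fintype.card F - X : K[X]).natDegree = Fintype.card F :=
    FiniteField.X_pow_card_sub_X_natDegree_eq K h1
  set s : Finset K := insert x (Finset.univ.image (algebraMap F K)) with hs
  have hcard : s.card = Fintype.card F + 1 := by
    rw [hs, Finset.card_insert_of_notMem, Finset.card_image_of_injective _ (algebraMap F K).injective,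
      Finset.card_univ]
    simp only [Finset.mem_image, Finset.mem_univ, true_and]
    exact fun ⟨y, hy⟩ => hcon y hy
  have hle : s.card ≤ (X ^ Fintype.card F - X : K[X]).natDegree := by
    refine card_le_degree_of_subset_roots ?_
    intro y hy
    rw [mem_roots hne, IsRoot.def, eval_sub, eval_pow, eval_X, sub_eq_zero]
    rw [hs] at hy
    simp only [Finset.mem_insert, Finset.mem_image, Finset.mem_univ, true_and, Finset.mem_val] at hy
    rcases hy with rfl | ⟨z, rfl⟩
    · exact hx
    · rw [← map_pow, FiniteField.pow_card]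
  omega

/-- the quadratic equation for the eigenvectors of a unitary `2 × 2` matrix has a root in `F` -/
theorem exists_root (hF : Fintype.card F = q ^ 2) {a b δ : F} (hb : b ≠ 0) (hδ : δ * δ ^ q = 1) :
    ∃ x : F, -(δ * b ^ q) * x ^ 2 + (a - δ * a ^ q) * x - b = 0 := by
  classical
  obtain ⟨p, k, hp, hchar, hk, -⟩ := exists_prime_pow hF
  have := Fact.mk hp
  let K := AlgebraicClosure F
  have : CharP K p := charP_of_injective_algebraMap (algebraMap F K).injective p
  have hδ0 : δ ≠ 0 := by rintro rfl; simp at hδ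
  have hc : -(δ * b ^ q) ≠ 0 := neg_ne_zero.2 (mul_ne_zero hδ0 (pow_ne_zero _ hb))
  -- abbreviations in `K`
  set m := algebraMap F K with hm
  have hadd : ∀ x y : K, (x + y) ^ q = x ^ q + y ^ q := fun x y => by rw [hk]; exact add_pow_char_pow x y p k
  have hneg : ∀ x : K, (-x) ^ q = -x ^ q := by
    intro x
    have h := hadd x (-x)
    rw [add_neg_cancel, zero_pow (q_pos hF).ne'] at h
    exact (neg_eq_of_add_eq_zero_right h.symm).symm
  have hqq : ∀ y : F, (m y ^ q) ^ q = m y := fun y => by rw [← map_pow, ← map_pow, pow_q_pow_q hF]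
  have hδm : m δ * m δ ^ q = 1 := by rw [← map_pow, ← map_mul, hδ, map_one]
  -- the polynomial
  let P : K[X] := C (-(m δ * m b ^ q)) * X ^ 2 + C (m a - m δ * m a ^ q) * X + C (-m b)
  have hcK : -(m δ * m b ^ q) ≠ 0 := by
    have h := (map_ne_zero m).2 hc
    rwa [map_neg, map_mul, map_pow] at h
  have hdeg : P.natDegree = 2 := natDegree_quadratic hcK
  have hP0 : P ≠ 0 := fun h => by rw [h, natDegree_zero] at hdeg; omega
  have hPdeg : P.degree ≠ 0 := by rw [degree_eq_natDegree hP0, hdeg]; decide
  obtain ⟨x, hx⟩ := IsAlgClosed.exists_root P hPdeg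
  have hev : ∀ y : K, P.IsRoot y ↔ -(m δ * m b ^ q) * y ^ 2 + (m a - m δ * m a ^ q) * y - m b = 0 := by
    intro y
    rw [IsRoot.def]
    simp only [P, eval_add, eval_mul, eval_C, eval_pow, eval_X, sub_eq_add_neg]
  have hb' : m b ≠ 0 := (map_ne_zero m).2 hb
  have hx0 : ∀ y : K, P.IsRoot y → y ≠ 0 := by
    rintro y hy rfl
    rw [hev] at hy
    simp at hy
    exact hb hy
  have hδm0 : m δ ≠ 0 := (map_ne_zero m).2 hδ0
  -- the involution on the roots
  have hinv : ∀ y : K, P.IsRoot y → P.IsRoot (-(y ^ q)⁻¹) := by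
    intro y hy
    have hy0 := hx0 y hy
    have hyq : y ^ q ≠ 0 := pow_ne_zero _ hy0
    rw [hev] at hy ⊢
    have h1 : (-(m δ * m b ^ q) * y ^ 2 + (m a - m δ * m a ^ q) * y - m b) ^ q = 0 := by
      rw [hy, zero_pow (q_pos hF).ne']
    rw [sub_eq_add_neg, hadd, hadd, mul_pow, mul_pow, hneg, hneg, sub_eq_add_neg, hadd, hneg, mul_pow, mul_pow, hqq,
      hqq, ← pow_mul, mul_comm 2 q, pow_mul] at h1
    have hδq : m δ ^ q = (m δ)⁻¹ := by
      exact eq_inv_of_mul_eq_one_right hδm
    rw [hδq] at h1
    generalize y ^ q = Y at h1 hyq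
    have h2 : (-(m δ * m b ^ q) * (-(Y)⁻¹) ^ 2 + (m a - m δ * m a ^ q) * (-(Y)⁻¹) - m b) * Y ^ 2 = 0 := by
      have h3 : Y⁻¹ * Y = 1 := inv_mul_cancel₀ hyq
      have h4 : m δ * (m δ)⁻¹ = 1 := mul_inv_cancel₀ hδm0
      linear_combination m δ * h1 + (-(m δ * m b ^ q) * (Y⁻¹ * Y + 1) - (m a - m δ * m a ^ q) * Y) * h3
        + (m b * Y ^ 2 + m a * Y) * h4
    exact (mul_eq_zero.1 h2).resolve_right (pow_ne_zero _ hyq)
  have htwo : ∀ y : K, P.IsRoot y → y ^ (q ^ 2) = -((-(y ^ q)⁻¹) ^ q)⁻¹ := by
    intro y hy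
    rw [hneg, inv_pow, inv_neg, neg_neg, inv_inv, ← pow_mul, sq]
  have hinj : ∀ y z : K, -(y ^ q)⁻¹ = -(z ^ q)⁻¹ → y = z := by
    intro y z h
    have h1 : y ^ q = z ^ q := inv_injective (neg_injective h)
    have h2 : (y + -z) ^ q = 0 := by rw [hadd, hneg, h1, add_neg_cancel]
    have h3 := pow_eq_zero_iff (q_pos hF).ne' |>.1 h2
    rw [← sub_eq_add_neg, sub_eq_zero] at h3
    exact h3
  have hthree : ∀ y z w : K, P.IsRoot y → P.IsRoot z → P.IsRoot w → y = z ∨ y = w ∨ z = w := by
    intro y z w hy hz hw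
    by_contra hcon
    push Not at hcon
    obtain ⟨h1, h2, h3⟩ := hcon
    have hle : ({y, z, w} : Finset K).card ≤ P.natDegree := by
      refine card_le_degree_of_subset_roots ?_
      intro t ht
      rw [mem_roots hP0]
      simp only [Finset.insert_val, Multiset.mem_ndinsert, Finset.singleton_val, Multiset.mem_singleton] at ht
      rcases ht with rfl | rfl | rfl <;> assumption
    rw [hdeg, Finset.card_eq_three.2 ⟨y, z, w, h1, h2, h3, rfl⟩] at hle
    omega
  have hxq : x ^ (q ^ 2) = x := by
    set y : K := -(x ^ q)⁻¹ with hy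
    have hyr : P.IsRoot y := hinv x hx
    have hzr : P.IsRoot (x ^ (q ^ 2)) := by rw [htwo x hx]; exact hinv y hyr
    rcases hthree x y (x ^ (q ^ 2)) hx hyr hzr with h | h | h
    · have h2 := htwo x hx
      rw [← hy, ← h, ← hy, ← h] at h2
      exact h2
    · exact h.symm
    · -- `y = σ y`
      have h2 := htwo x hx
      rw [← h, ← hy] at h2
      have h3 : x = y := hinj x y (by rw [← hy]; exact h2)
      rw [← h]; exact h3.symm
  rw [← hF] at hxq
  obtain ⟨t, ht⟩ := mem_range_of_pow (F := F) hxq
  refine ⟨t, m.injective ?_⟩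
  rw [map_sub, map_add, map_mul, map_mul, map_neg, map_mul, map_sub, map_mul, map_pow, map_pow, map_pow, map_zero, ht]
  exact (hev x).1 hx

end Root

section Plane

variable {F : Type*} [Field F] [Fintype F] {n q : ℕ} {A : Submodule F (Fin n → F)}

local notation "h" => hermForm n F q

omit [Fintype F] in
theorem expand_two (h2 : finrank F A = 2) {b : Fin 2 → (Fin n → F)} (hbA : ∀ i, b i ∈ A)
    (hb : ∀ i j, h (b i) (b j) = if i = j then 1 else 0) {v : Fin n → F} (hv : v ∈ A) :
    v = h v (b 0) • b 0 + h v (b 1) • b 1 := by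
  conv_lhs => rw [eq_sum_of_orthonormal A (by simpa using h2) hbA hb hv]
  rw [Fin.sum_univ_two]

/-- a linear isometry of a nondegenerate plane has an eigenvector -/
theorem exists_eig (hF : Fintype.card F = q ^ 2) (hA : NDeg q A) (h2 : finrank F A = 2)
    {g : (Fin n → F) → (Fin n → F)} (hl : Lin g) (ha : ∀ v w, g (v + w) = g v + g w)
    (hi : ∀ v w, h (g v) (g w) = h v w) (hs : Stab g A) :
    ∃ e ∈ A, e ≠ 0 ∧ ∃ c : F, g e = c • e := by
  obtain ⟨u, huA, hu⟩ := exists_orthonormal hF A hA h2
  have h00 : h (u 0) (u 0) = 1 := by rw [hu]; rfl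
  have h11 : h (u 1) (u 1) = 1 := by rw [hu]; rfl
  have h01 : h (u 0) (u 1) = 0 := by rw [hu]; rfl
  have h10 : h (u 1) (u 0) = 0 := by rw [hu]; rfl
  have e0 := expand_two h2 huA hu (hs _ (huA 0))
  have e1 := expand_two h2 huA hu (hs _ (huA 1))
  set a := h (g (u 0)) (u 0) with hadef
  set b := h (g (u 0)) (u 1) with hbdef
  set c := h (g (u 1)) (u 0) with hcdef
  set d := h (g (u 1)) (u 1) with hddef
  have q00 : a * a ^ q + b * b ^ q = 1 := by
    have h1 := hi (u 0) (u 0)
    rw [e0, herm_add_left, herm_smul_left, herm_smul_left, herm_add_right hF, herm_add_right hF, herm_smul_right,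
      herm_smul_right, herm_smul_right, herm_smul_right, h00, h01, h10, h11] at h1
    linear_combination h1
  have q10 : c * a ^ q + d * b ^ q = 0 := by
    have h1 := hi (u 1) (u 0)
    rw [e0, e1, herm_add_left, herm_smul_left, herm_smul_left, herm_add_right hF, herm_add_right hF, herm_smul_right,
      herm_smul_right, herm_smul_right, herm_smul_right, h00, h01, h10, h11] at h1
    linear_combination h1
  have q11 : c * c ^ q + d * d ^ q = 1 := by
    have h1 := hi (u 1) (u 1)
    rw [e1, herm_add_left, herm_smul_left, herm_smul_left, herm_add_right hF, herm_add_right hF, herm_smul_right,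
      herm_smul_right, herm_smul_right, herm_smul_right, h00, h01, h10, h11] at h1
    linear_combination h1
  by_cases hb0 : b = 0
  · refine ⟨u 0, huA 0, ?_, a, ?_⟩
    · intro h0
      rw [h0, herm_zero_left] at h00
      exact zero_ne_one h00
    · rw [e0, hb0, zero_smul, add_zero]
  · set δ := a * d - b * c with hδdef
    have hd : d = δ * a ^ q := by rw [hδdef]; linear_combination b * q10 - d * q00
    have hc : c = -(δ * b ^ q) := by rw [hδdef]; linear_combination a * q10 - c * q00
    have hδ : δ * δ ^ q = 1 := by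
      have hcq : c ^ q = -(δ ^ q * b) := by rw [hc, neg_pow_q hF, mul_pow, pow_q_pow_q hF]
      have hdq : d ^ q = δ ^ q * a := by rw [hd, mul_pow, pow_q_pow_q hF]
      rw [hcq, hdq, hc, hd] at q11
      linear_combination q11 - (δ * δ ^ q) * q00
    obtain ⟨x, hx⟩ := exists_root hF (a := a) hb0 hδ
    rw [← hc, ← hd] at hx
    refine ⟨u 0 + x • u 1, A.add_mem (huA 0) (A.smul_mem _ (huA 1)), ?_, a + c * x, ?_⟩
    · intro h0
      have h1 : h (u 0 + x • u 1) (u 0) = 1 := by rw [herm_add_left, herm_smul_left, h00, h10, mul_zero, add_zero]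
      rw [h0, herm_zero_left] at h1
      exact zero_ne_one h1
    · rw [ha, hl, e0, e1]
      have h1 : (a + c * x) * x = b + x * d := by linear_combination hx
      rw [smul_add (a + c * x) (u 0) (x • u 1), smul_smul (a + c * x) x, h1]
      module

/-- (P2) -/
theorem plane (hF : Fintype.card F = q ^ 2) {ι : Type*} {f : ι → (Fin n → F) → (Fin n → F)} (hl : ∀ i, Lin (f i))
    (ha : ∀ i v w, f i (v + w) = f i v + f i w) (hi : ∀ i v w, h (f i v) (f i w) = h v w)
    (hc : ∀ i j v, f i (f j v) = f j (f i v)) (hA : NDeg q A) (h2 : finrank F A = 2) (hs : ∀ i, Stab (f i) A) :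
    (∃ e ∈ A, e ≠ 0 ∧ h e e = 0 ∧ ∀ i, ∃ c : F, f i e = c • e) ∨
    ∃ w₁ ∈ A, ∃ w₂ ∈ A, h w₁ w₁ = 1 ∧ h w₂ w₂ = 1 ∧ h w₁ w₂ = 0 ∧ h w₂ w₁ = 0 ∧
      (∀ v ∈ A, v = h v w₁ • w₁ + h v w₂ • w₂) ∧ ∀ i, (∃ c : F, f i w₁ = c • w₁) ∧ ∃ c : F, f i w₂ = c • w₂ := by
  obtain ⟨u, huA, hu⟩ := exists_orthonormal hF A hA h2
  have h00 : h (u 0) (u 0) = 1 := by rw [hu]; rfl
  have h11 : h (u 1) (u 1) = 1 := by rw [hu]; rfl
  have h01 : h (u 0) (u 1) = 0 := by rw [hu]; rfl
  have h10 : h (u 1) (u 0) = 0 := by rw [hu]; rfl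
  by_cases hsc : ∀ i, ScalOn (f i) A
  · left
    obtain ⟨t, ht⟩ := exists_norm_eq hF (c := (-1 : F)) (by rw [neg_pow_q hF, one_pow])
    refine ⟨u 0 + t • u 1, A.add_mem (huA 0) (A.smul_mem _ (huA 1)), ?_, ?_, fun i => ?_⟩
    · intro h0
      have h1 : h (u 0 + t • u 1) (u 0) = 1 := by rw [herm_add_left, herm_smul_left, h00, h10, mul_zero, add_zero]
      rw [h0, herm_zero_left] at h1
      exact zero_ne_one h1
    · rw [herm_add_left, herm_smul_left, herm_add_right hF, herm_add_right hF, herm_smul_right,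
        herm_smul_right, h00, h01, h10, h11]
      linear_combination ht
    · obtain ⟨c, hc⟩ := hsc i
      exact ⟨c, hc _ (A.add_mem (huA 0) (A.smul_mem _ (huA 1)))⟩
  · push Not at hsc
    obtain ⟨i₀, hi₀⟩ := hsc
    obtain ⟨e, heA, he0, c₀, hc₀⟩ := exists_eig hF hA h2 (hl i₀) (ha i₀) (hi i₀) (hs i₀)
    have hcom : ∀ j, ∃ c : F, f j e = c • e := by
      intro j
      by_contra hcon
      push Not at hcon
      apply hi₀
      refine ⟨c₀, ?_⟩
      have hind : LinearIndependent F ![e, f j e] := by
        rw [LinearIndependent.pair_iff]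
        intro s t hst
        have ht : t = 0 := by
          by_contra ht
          apply hcon (-(t⁻¹ * s))
          have h1 : t • f j e = -(s • e) := eq_neg_of_add_eq_zero_right hst
          calc f j e = t⁻¹ • (t • f j e) := by rw [smul_smul, inv_mul_cancel₀ ht, one_smul]
            _ = _ := by rw [h1, smul_neg, smul_smul, neg_smul]
        rw [ht, zero_smul, add_zero] at hst
        exact ⟨(smul_eq_zero.1 hst).resolve_right he0, ht⟩
      have hspan : Submodule.span F (Set.range ![e, f j e]) = A := by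
        apply Submodule.eq_of_le_of_finrank_eq
        · rw [Submodule.span_le]
          rintro _ ⟨k, rfl⟩
          fin_cases k
          · exact heA
          · exact hs j e heA
        · rw [finrank_span_eq_card hind, h2]; rfl
      intro v hv
      rw [← hspan, Submodule.mem_span_range_iff_exists_fun] at hv
      obtain ⟨k, rfl⟩ := hv
      rw [Fin.sum_univ_two]
      simp only [Matrix.cons_val_zero, Matrix.cons_val_one]
      rw [ha, hl, hl, hc₀, hc i₀ j, hc₀, hl, smul_add, smul_comm c₀, smul_comm c₀]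
    by_cases hee : h e e = 0
    · exact Or.inl ⟨e, heA, he0, hee, hcom⟩
    · right
      obtain ⟨t, ht0, ht⟩ := exists_norm_eq_ne hF (c := (h e e)⁻¹) (by rw [inv_pow, herm_self_pow hF]) (inv_ne_zero hee)
      have hw1A : t • e ∈ A := A.smul_mem _ heA
      have hw11 : h (t • e) (t • e) = 1 := by
        rw [herm_smul_left, herm_smul_right, ← mul_assoc, ht, inv_mul_cancel₀ hee]
      have hcom1 : ∀ i, ∃ c : F, f i (t • e) = c • (t • e) := by
        intro i
        obtain ⟨c, hc⟩ := hcom i
        exact ⟨c, by rw [hl, hc, smul_comm]⟩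
      have ex := expand_two h2 huA hu hw1A
      set w₁ := t • e with hw1
      set α := h w₁ (u 0)
      set β := h w₁ (u 1)
      have hαβ : α * α ^ q + β * β ^ q = 1 := by
        rw [ex, herm_add_left, herm_smul_left, herm_smul_left, herm_add_right hF, herm_add_right hF, herm_smul_right,
          herm_smul_right, herm_smul_right, herm_smul_right, h00, h01, h10, h11] at hw11
        linear_combination hw11
      set w₂ := (-β ^ q) • u 0 + (α ^ q) • u 1 with hw2
      have hw2A : w₂ ∈ A := A.add_mem (A.smul_mem _ (huA 0)) (A.smul_mem _ (huA 1))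
      have hw22 : h w₂ w₂ = 1 := by
        rw [hw2, herm_add_left, herm_smul_left, herm_smul_left, herm_add_right hF, herm_add_right hF, herm_smul_right,
          herm_smul_right, herm_smul_right, herm_smul_right, h00, h01, h10, h11, neg_pow_q hF, pow_q_pow_q hF,
          pow_q_pow_q hF]
        linear_combination hαβ
      have hw12 : h w₁ w₂ = 0 := by
        rw [hw2, ex, herm_add_left, herm_smul_left, herm_smul_left, herm_add_right hF, herm_add_right hF, herm_smul_right,
          herm_smul_right, herm_smul_right, herm_smul_right, h00, h01, h10, h11, neg_pow_q hF, pow_q_pow_q hF,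
          pow_q_pow_q hF]
        ring
      have hw21 : h w₂ w₁ = 0 := herm_eq_zero_swap hF hw12
      have hbb : ∀ i j, h (![w₁, w₂] i) (![w₁, w₂] j) = if i = j then 1 else 0 := by
        intro i j
        fin_cases i <;> fin_cases j <;> simp [hw11, hw12, hw21, hw22]
      have hbA : ∀ i, ![w₁, w₂] i ∈ A := by
        intro i
        fin_cases i
        · exact hw1A
        · exact hw2A
      have hexp : ∀ v ∈ A, v = h v w₁ • w₁ + h v w₂ • w₂ := fun v hv => expand_two h2 hbA hbb hv
      refine ⟨w₁, hw1A, w₂, hw2A, hw11, hw22, hw12, hw21, hexp, fun i => ⟨hcom1 i, h (f i w₂) w₂, ?_⟩⟩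
      obtain ⟨c, hc⟩ := hcom1 i
      have h1 : h (f i w₂) w₁ * c ^ q = 0 := by
        have h2 := hi i w₂ w₁
        rw [hc, herm_smul_right, hw21] at h2
        rw [mul_comm]; exact h2
      have hc0 : c ≠ 0 := by
        rintro rfl
        have h2 := hi i w₁ w₁
        rw [hc, zero_smul, herm_zero_left, hw11] at h2
        exact zero_ne_one h2
      have h3 : h (f i w₂) w₁ = 0 := (mul_eq_zero.1 h1).resolve_right (pow_ne_zero _ hc0)
      conv_lhs => rw [hexp _ (hs i w₂ hw2A), h3, zero_smul, zero_add]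

end Plane

/-! ### `q = 2` -/

section Four

variable {F : Type*} [Field F] [Fintype F]

theorem cube (h4 : Fintype.card F = 4) {x : F} (hx : x ≠ 0) : x ^ 3 = 1 := by
  have h := FiniteField.pow_card_sub_one_eq_one x hx
  rwa [h4] at h

theorem two_zero (h4 : Fintype.card F = 4) : (2 : F) = 0 := by
  have h := FiniteField.cast_card_eq_zero F
  rw [h4] at h
  push_cast at h
  have h2 : (2 : F) * 2 = 0 := by rw [← h]; norm_num
  exact mul_self_eq_zero.1 h2

theorem quad (h4 : Fintype.card F = 4) {x y : F} (hx : x ≠ 0) (hy : y ≠ 0) (hxy : x ≠ y) :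
    x ^ 2 + x * y + y ^ 2 = 0 := by
  have h1 : (x - y) * (x ^ 2 + x * y + y ^ 2) = 0 := by
    have h2 := cube h4 hx
    have h3 := cube h4 hy
    linear_combination h2 - h3
  exact (mul_eq_zero.1 h1).resolve_left (sub_ne_zero.2 hxy)

/-- three nonzero elements of the field with four elements: product one iff all equal or sum zero -/
theorem prod_one (h4 : Fintype.card F = 4) {a b c : F} (ha : a ≠ 0) (hb : b ≠ 0) (hc : c ≠ 0) :
    a * b * c = 1 ↔ (a + b + c = 0 ∨ (a = b ∧ b = c)) := by
  have h2 := two_zero h4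
  have a3 := cube h4 ha
  have b3 := cube h4 hb
  have c3 := cube h4 hc
  constructor
  · intro h
    by_cases hab : a = b
    · right
      refine ⟨hab, ?_⟩
      subst hab
      have h1 : a ^ 2 * (c - a) = 0 := by linear_combination h - a3
      have h3 := (mul_eq_zero.1 h1).resolve_left (pow_ne_zero _ ha)
      exact (sub_eq_zero.1 h3).symm
    · left
      have hq := quad h4 ha hb hab
      have h1 : a * b * (a + b + c) = 0 := by
        linear_combination b * hq - b3 + h
      exact (mul_eq_zero.1 h1).resolve_left (mul_ne_zero ha hb)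
  · rintro (h | ⟨rfl, rfl⟩)
    · have hab : a ≠ b := by
        rintro rfl
        apply hc
        linear_combination h - a * h2
      have hq := quad h4 ha hb hab
      have hc' : c = -(a + b) := by linear_combination h
      rw [hc']
      linear_combination (-b) * hq + b3
    · linear_combination a3

/-- unit vectors: one or three nonzero coordinates -/
theorem unit_cases (h4 : Fintype.card F = 4) {x y z : F} (h : x ^ 3 + y ^ 3 + z ^ 3 = 1) :
    (x ≠ 0 ∧ y = 0 ∧ z = 0) ∨ (x = 0 ∧ y ≠ 0 ∧ z = 0) ∨ (x = 0 ∧ y = 0 ∧ z ≠ 0) ∨ (x ≠ 0 ∧ y ≠ 0 ∧ z ≠ 0) := by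
  have h2 := two_zero h4
  by_cases hx : x = 0 <;> by_cases hy : y = 0 <;> by_cases hz : z = 0
  · subst hx hy hz; norm_num at h
  · exact Or.inr (Or.inr (Or.inl ⟨hx, hy, hz⟩))
  · exact Or.inr (Or.inl ⟨hx, hy, hz⟩)
  · exfalso
    have h3 : (1 : F) = 0 := by linear_combination (-1) * h + cube h4 hy + cube h4 hz + (x ^ 2) * hx + h2
    exact one_ne_zero h3
  · exact Or.inl ⟨hx, hy, hz⟩
  · exfalso
    have h3 : (1 : F) = 0 := by linear_combination (-1) * h + cube h4 hx + cube h4 hz + (y ^ 2) * hy + h2
    exact one_ne_zero h3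
  · exfalso
    have h3 : (1 : F) = 0 := by linear_combination (-1) * h + cube h4 hx + cube h4 hy + (z ^ 2) * hz + h2
    exact one_ne_zero h3
  · exact Or.inr (Or.inr (Or.inr ⟨hx, hy, hz⟩))

/-- the twelve nonsingular points form four triangles, separated by the cubic form `x y z` -/
theorem kappa_iff (h4 : Fintype.card F = 4) {x₀ x₁ x₂ y₀ y₁ y₂ : F} (hx : x₀ ^ 3 + x₁ ^ 3 + x₂ ^ 3 = 1)
    (hy : y₀ ^ 3 + y₁ ^ 3 + y₂ ^ 3 = 1) :
    x₀ * x₁ * x₂ = y₀ * y₁ * y₂ ↔
      (x₀ * y₀ ^ 2 + x₁ * y₁ ^ 2 + x₂ * y₂ ^ 2 = 0 ∨ ∃ c, x₀ = c * y₀ ∧ x₁ = c * y₁ ∧ x₂ = c * y₂) := by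
  have sc : ∀ {a b : F}, b ≠ 0 → a = (a * b ^ 2) * b := fun {a b} hb => by
    linear_combination (-a) * cube h4 hb
  rcases unit_cases h4 hx with ⟨hx0, rfl, rfl⟩ | ⟨rfl, hx1, rfl⟩ | ⟨rfl, rfl, hx2⟩ | ⟨hx0, hx1, hx2⟩ <;>
  rcases unit_cases h4 hy with ⟨hy0, rfl, rfl⟩ | ⟨rfl, hy1, rfl⟩ | ⟨rfl, rfl, hy2⟩ | ⟨hy0, hy1, hy2⟩
  all_goals try (simp; done)
  · simp only [mul_zero, true_iff]
    exact Or.inr ⟨_, sc hy0, by simp, by simp⟩
  · simp only [mul_zero, zero_mul]
    constructor
    · intro h; exact absurd h.symm (mul_ne_zero (mul_ne_zero hy0 hy1) hy2)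
    · rintro (h | ⟨c, h1, h2, h3⟩)
      · simp only [add_zero] at h
        exact absurd h (mul_ne_zero hx0 (pow_ne_zero _ hy0))
      · exfalso
        have hc : c = 0 := (mul_eq_zero.1 h2.symm).resolve_right hy1
        rw [hc, zero_mul] at h1
        exact hx0 h1
  · simp only [mul_zero, true_iff]
    exact Or.inr ⟨_, by simp, sc hy1, by simp⟩
  · simp only [mul_zero, zero_mul]
    constructor
    · intro h; exact absurd h.symm (mul_ne_zero (mul_ne_zero hy0 hy1) hy2)
    · rintro (h | ⟨c, h1, h2, h3⟩)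
      · simp only [add_zero, zero_add] at h
        exact absurd h (mul_ne_zero hx1 (pow_ne_zero _ hy1))
      · exfalso
        have hc : c = 0 := (mul_eq_zero.1 h1.symm).resolve_right hy0
        rw [hc, zero_mul] at h2
        exact hx1 h2
  · simp only [mul_zero, zero_mul, true_iff]
    exact Or.inr ⟨_, by simp, by simp, sc hy2⟩
  · simp only [mul_zero, zero_mul]
    constructor
    · intro h; exact absurd h.symm (mul_ne_zero (mul_ne_zero hy0 hy1) hy2)
    · rintro (h | ⟨c, h1, h2, h3⟩)
      · simp only [zero_add] at h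
        exact absurd h (mul_ne_zero hx2 (pow_ne_zero _ hy2))
      · exfalso
        have hc : c = 0 := (mul_eq_zero.1 h1.symm).resolve_right hy0
        rw [hc, zero_mul] at h3
        exact hx2 h3
  · simp only [mul_zero]
    constructor
    · intro h; exact absurd h (mul_ne_zero (mul_ne_zero hx0 hx1) hx2)
    · rintro (h | ⟨c, h1, h2, h3⟩)
      · rw [zero_pow two_ne_zero, mul_zero, mul_zero, add_zero, add_zero] at h
        exact absurd h (mul_ne_zero hx0 (pow_ne_zero _ hy0))
      · exact absurd h2 (by simpa using hx1)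
  · simp only [mul_zero, zero_mul]
    constructor
    · intro h; exact absurd h (mul_ne_zero (mul_ne_zero hx0 hx1) hx2)
    · rintro (h | ⟨c, h1, h2, h3⟩)
      · rw [zero_pow two_ne_zero, mul_zero, mul_zero, add_zero, zero_add] at h
        exact absurd h (mul_ne_zero hx1 (pow_ne_zero _ hy1))
      · exact absurd h1 hx0
  · simp only [mul_zero, zero_mul]
    constructor
    · intro h; exact absurd h (mul_ne_zero (mul_ne_zero hx0 hx1) hx2)
    · rintro (h | ⟨c, h1, h2, h3⟩)
      · rw [zero_pow two_ne_zero, mul_zero, mul_zero, zero_add, zero_add] at h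
        exact absurd h (mul_ne_zero hx2 (pow_ne_zero _ hy2))
      · exact absurd h1 hx0
  · have hw := prod_one h4 (mul_ne_zero hx0 (pow_ne_zero 2 hy0)) (mul_ne_zero hx1 (pow_ne_zero 2 hy1))
      (mul_ne_zero hx2 (pow_ne_zero 2 hy2))
    have hY := cube h4 (mul_ne_zero (mul_ne_zero hy0 hy1) hy2)
    constructor
    · intro h
      have h1 : x₀ * y₀ ^ 2 * (x₁ * y₁ ^ 2) * (x₂ * y₂ ^ 2) = 1 := by
        linear_combination (y₀ * y₁ * y₂) ^ 2 * h + hY
      rcases hw.1 h1 with h2 | ⟨h2, h3⟩
      · exact Or.inl h2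
      · refine Or.inr ⟨x₀ * y₀ ^ 2, sc hy0, ?_, ?_⟩
        · rw [h2]; exact sc hy1
        · rw [h2, h3]; exact sc hy2
    · intro h
      have h1 : x₀ * y₀ ^ 2 * (x₁ * y₁ ^ 2) * (x₂ * y₂ ^ 2) = 1 := by
        rcases h with h | ⟨c, h5, h6, h7⟩
        · exact hw.2 (Or.inl h)
        · refine hw.2 (Or.inr ?_)
          rw [h5, h6, h7]
          constructor
          · linear_combination c * cube h4 hy0 - c * cube h4 hy1
          · linear_combination c * cube h4 hy1 - c * cube h4 hy2
      linear_combination (y₀ * y₁ * y₂) * h1 - (x₀ * x₁ * x₂) * hY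

set_option maxRecDepth 100000 in
theorem fin_four_aux : ∀ σ : Equiv.Perm (Fin 4), (∀ x, σ x ≠ x) → ∀ x, σ (σ (σ (σ x))) = x := by
  decide

theorem fin_four (σ : Fin 4 → Fin 4) (hi : ∀ x y, σ x = σ y → x = y) (hf : ∀ x, σ x ≠ x) (x : Fin 4) :
    σ (σ (σ (σ x))) = x :=
  fin_four_aux (Equiv.ofBijective σ (Finite.injective_iff_bijective.1 fun x y h => hi x y h)) hf x

/-- a permutation of odd order of four objects has a fixed point -/
theorem exists_fixed (h4 : Fintype.card F = 4) (σ : F → F) {m : ℕ} (hm : m.Coprime 2) (hσ : ∀ x, σ^[m] x = x) :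
    ∃ x, σ x = x := by
  classical
  by_contra hcon
  push Not at hcon
  have hinj : Function.Injective σ := by
    have hm0 : m ≠ 0 := by rintro rfl; simp at hm
    obtain ⟨k, rfl⟩ := Nat.exists_eq_succ_of_ne_zero hm0
    intro x y hxy
    rw [← hσ x, ← hσ y, Function.iterate_succ_apply, Function.iterate_succ_apply, hxy]
  let e := Fintype.equivFinOfCardEq h4
  have h1 := fin_four (fun i => e (σ (e.symm i)))
    (fun i j hij => e.symm.injective (hinj (e.injective hij)))
    (fun i hi => hcon (e.symm i) (by rw [Equiv.eq_symm_apply]; exact hi))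
  have h2 : ∀ x, Function.IsPeriodicPt σ 4 x := by
    intro x
    have h3 := h1 (e x)
    simp only [Equiv.symm_apply_apply] at h3
    exact e.injective h3
  obtain ⟨x⟩ : Nonempty F := ⟨0⟩
  have h3 : Function.IsPeriodicPt σ m x := hσ x
  have h4' := (h2 x).gcd h3
  have h5 : Nat.gcd 4 m = 1 := by
    have : Nat.Coprime (2 ^ 2) m := Nat.Coprime.pow_left 2 hm.symm
    exact this
  rw [h5] at h4'
  exact hcon x h4'

end Four

section Nine

variable {F : Type*} [Field F] [Fintype F] {n q : ℕ} {A : Submodule F (Fin n → F)}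

local notation "h" => hermForm n F q

/-- (P4) -/
theorem line_three (hq : q = 2) {g : (Fin n → F) → (Fin n → F)} (hl : Lin g)
    (hi : ∀ v w, h (g v) (g w) = h v w) {w : Fin n → F} (hw : h w w ≠ 0) {c : F} (hc : g w = c • w) :
    g^[3] w = w := by
  have h1 := hi w w
  rw [hc, herm_smul_left, herm_smul_right, ← mul_assoc] at h1
  have h2 : c * c ^ q = 1 := mul_right_cancel₀ hw (by rw [h1, one_mul])
  rw [hq] at h2
  simp only [Function.iterate_succ_apply, Function.iterate_zero, id_eq]
  rw [hc, hl, hl, hc, hl, hc, smul_smul, smul_smul]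
  have h3 : c * c * c = 1 := by linear_combination h2
  rw [h3, one_smul]

/-- (P3) : on a nondegenerate space of dimension three, `q = 2`, an isometry of odd order has order dividing nine -/
theorem nine (hF : Fintype.card F = q ^ 2) (hq : q = 2) (hA : NDeg q A) (h3 : finrank F A = 3)
    {g : (Fin n → F) → (Fin n → F)} (hl : Lin g) (ha : ∀ v w, g (v + w) = g v + g w)
    (hi : ∀ v w, h (g v) (g w) = h v w) (hs : Stab g A) {m : ℕ} (hm : m.Coprime q) (hgm : ∀ v ∈ A, g^[m] v = v) :
    ∀ v ∈ A, g^[9] v = v := by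
  classical
  have h4 : Fintype.card F = 4 := by rw [hF, hq]; norm_num
  rw [hq] at hm
  obtain ⟨u, huA, hu⟩ := exists_orthonormal hF A hA h3
  have hexp : ∀ v ∈ A, v = h v (u 0) • u 0 + h v (u 1) • u 1 + h v (u 2) • u 2 := by
    intro v hv
    conv_lhs => rw [eq_sum_of_orthonormal A (by simpa using h3) huA hu hv]
    rw [Fin.sum_univ_three]
  have hco : ∀ (c : Fin 3 → F) j, h (∑ i, c i • u i) (u j) = c j := fun c j => herm_sum_smul_left hu c j
  -- products in coordinates
  have hprod : ∀ v w, w ∈ A → h v w = h v (u 0) * (h w (u 0)) ^ 2 + h v (u 1) * (h w (u 1)) ^ 2 +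
      h v (u 2) * (h w (u 2)) ^ 2 := by
    intro v w hw
    conv_lhs => rw [hexp w hw, herm_add_right hF, herm_add_right hF, herm_smul_right, herm_smul_right, herm_smul_right]
    rw [hq]; ring
  have hunit : ∀ v, v ∈ A → h v v = (h v (u 0)) ^ 3 + (h v (u 1)) ^ 3 + (h v (u 2)) ^ 3 := by
    intro v hv
    rw [hprod v v hv]; ring
  let κ : (Fin n → F) → F := fun v => h v (u 0) * h v (u 1) * h v (u 2)
  have hκ : ∀ v w, v ∈ A → w ∈ A → h v v = 1 → h w w = 1 → (κ v = κ w ↔ (h v w = 0 ∨ ∃ c : F, v = c • w)) := by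
    intro v w hv hw hv1 hw1
    rw [hunit v hv] at hv1
    rw [hunit w hw] at hw1
    rw [hprod v w hw]
    refine (kappa_iff h4 hv1 hw1).trans (or_congr_right ⟨?_, ?_⟩)
    · rintro ⟨c, h1, h2, h3⟩
      refine ⟨c, ?_⟩
      rw [hexp v hv, h1, h2, h3]
      conv_rhs => rw [hexp w hw]
      module
    · rintro ⟨c, rfl⟩
      exact ⟨c, herm_smul_left _ _ _, herm_smul_left _ _ _, herm_smul_left _ _ _⟩
  have hgA : ∀ (j : ℕ) v, v ∈ A → g^[j] v ∈ A := by
    intro j
    induction j with
    | zero => exact fun v hv => hv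
    | succ j ih => exact fun v hv => by rw [Function.iterate_succ_apply]; exact ih _ (hs v hv)
  have hgi : ∀ (j : ℕ) v w, h (g^[j] v) (g^[j] w) = h v w := by
    intro j
    induction j with
    | zero => exact fun v w => rfl
    | succ j ih => exact fun v w => by rw [Function.iterate_succ_apply, Function.iterate_succ_apply, ih, hi]
  -- the section of `κ`
  have h2 := two_zero h4
  let s : F → (Fin n → F) := fun k => ∑ i, (if k = 0 then ![1, 0, 0] else ![1, 1, k] : Fin 3 → F) i • u i
  have hsA : ∀ k, s k ∈ A := fun k => A.sum_mem fun i _ => A.smul_mem _ (huA i)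
  have hs1 : ∀ k, h (s k) (s k) = 1 := by
    intro k
    rw [hunit _ (hsA k), hco, hco, hco]
    by_cases hk : k = 0
    · simp [hk]
    · simp only [hk, if_false, Matrix.cons_val_zero, Matrix.cons_val_one, Matrix.cons_val]
      linear_combination cube h4 hk + h2
  have hsκ : ∀ k, κ (s k) = k := by
    intro k
    change h (s k) (u 0) * h (s k) (u 1) * h (s k) (u 2) = k
    rw [hco, hco, hco]
    by_cases hk : k = 0
    · simp [hk]
    · simp [hk]
  let σ : F → F := fun k => κ (g (s k))
  have hσ : ∀ v ∈ A, h v v = 1 → κ (g v) = σ (κ v) := by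
    intro v hv hv1
    have h5 := (hκ v (s (κ v)) hv (hsA _) hv1 (hs1 _)).1 (hsκ _).symm
    refine (hκ (g v) (g (s (κ v))) (hs _ hv) (hs _ (hsA _)) (by rw [hi, hv1]) (by rw [hi, hs1])).2 ?_
    rcases h5 with h5 | ⟨c, h5⟩
    · left; rw [hi, h5]
    · right; exact ⟨c, by conv_lhs => rw [h5, hl]⟩
  have hσj : ∀ (j : ℕ) v, v ∈ A → h v v = 1 → κ (g^[j] v) = σ^[j] (κ v) := by
    intro j
    induction j with
    | zero => exact fun v _ _ => rfl
    | succ j ih =>
      intro v hv hv1
      rw [Function.iterate_succ_apply, ih _ (hs _ hv) (by rw [hi, hv1]), hσ v hv hv1, Function.iterate_succ_apply]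
  obtain ⟨k, hk⟩ := exists_fixed h4 σ hm (fun x => by
    have h5 := hσj m (s x) (hsA x) (hs1 x)
    rw [hgm _ (hsA x), hsκ] at h5
    exact h5.symm)
  have hσk : ∀ j : ℕ, σ^[j] k = k := fun j => by
    induction j with
    | zero => rfl
    | succ j ih => rw [Function.iterate_succ_apply, hk, ih]
  -- `g^9` fixes the unit vectors of the class `k`
  have key : ∀ v ∈ A, h v v = 1 → κ v = k → g^[9] v = v := by
    intro v hv hv1 hvk
    have hR : ∀ i j : ℕ, h (g^[i] v) (g^[j] v) = 0 ∨ ∃ c : F, g^[i] v = c • g^[j] v := by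
      intro i j
      refine (hκ _ _ (hgA i v hv) (hgA j v hv) (by rw [hgi, hv1]) (by rw [hgi, hv1])).1 ?_
      rw [hσj i v hv hv1, hσj j v hv hv1, hvk, hσk, hσk]
    have hlj : ∀ (j : ℕ) (c : F) w, g^[j] (c • w) = c • g^[j] w := by
      intro j
      induction j with
      | zero => exact fun c w => rfl
      | succ j ih => exact fun c w => by rw [Function.iterate_succ_apply, hl, ih, Function.iterate_succ_apply]
    have h3v : ∃ c : F, g^[3] v = c • v := by
      rcases hR 1 0 with h5 | ⟨c, h5⟩
      · rcases hR 2 0 with h6 | ⟨c, h6⟩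
        · rcases hR 3 0 with h7 | ⟨c, h7⟩
          · exfalso
            simp only [Function.iterate_zero, id_eq] at h5 h6 h7
            have e1 : g^[1] v = g v := rfl
            -- frame v, g v, g² v
            have h20 : h (g^[2] v) (g^[1] v) = 0 := by
              have := hgi 1 (g^[1] v) v
              rw [h5] at this
              exact this
            have h31 : h (g^[3] v) (g^[1] v) = 0 := by
              have := hgi 1 (g^[2] v) v
              rw [h6] at this
              exact this
            have h32 : h (g^[3] v) (g^[2] v) = 0 := by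
              have := hgi 2 (g^[1] v) v
              rw [h5] at this
              exact this
            have hfr : ∀ i j, h (![v, g^[1] v, g^[2] v] i) (![v, g^[1] v, g^[2] v] j) = if i = j then 1 else 0 := by
              intro i j
              fin_cases i <;> fin_cases j <;>
                simp only [Fin.zero_eta, Fin.mk_one, Fin.reduceFinMk, Matrix.cons_val_zero, Matrix.cons_val_one,
                  Matrix.cons_val, hv1, hgi, h5, h6, h20, herm_eq_zero_swap hF h5, herm_eq_zero_swap hF h6,
                  herm_eq_zero_swap hF h20] <;> rfl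
            have hfA : ∀ i, ![v, g^[1] v, g^[2] v] i ∈ A := by
              intro i
              fin_cases i
              · exact hv
              · exact hgA 1 v hv
              · exact hgA 2 v hv
            have h8 := eq_sum_of_orthonormal A (by simpa using h3) hfA hfr (hgA 3 v hv)
            rw [Fin.sum_univ_three] at h8
            simp only [Matrix.cons_val_zero, Matrix.cons_val_one, Matrix.cons_val, h7, h31, h32, zero_smul,
              add_zero] at h8
            have h9 := hgi 3 v v
            rw [h8, herm_zero_left, hv1] at h9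
            exact zero_ne_one h9
          · exact ⟨c, h7⟩
        · -- `g² v = c v`, `m` odd
          simp only [Function.iterate_zero, id_eq] at h6
          have hodd : Odd m := by
            rw [← Nat.not_even_iff_odd]
            intro he
            have := Nat.Coprime.eq_one_of_dvd hm.symm he.two_dvd
            omega
          obtain ⟨l, hl'⟩ := hodd
          have h7 : ∀ l : ℕ, g^[2 * l] v = c ^ l • v := by
            intro l
            induction l with
            | zero => simp
            | succ l ih => rw [Nat.mul_succ, Function.iterate_add_apply, h6, hlj, ih, smul_smul, pow_succ']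
          have h8 := hgm v hv
          rw [hl'] at h8
          have h8' : g (g^[2 * l] v) = v := by rw [← Function.iterate_succ_apply' g]; exact h8
          rw [h7, hl] at h8'
          clear h8
          rename' h8' => h8
          have hc0 : c ^ l ≠ 0 := by
            intro h0
            rw [h0, zero_smul] at h8
            rw [← h8, herm_zero_left] at hv1
            exact zero_ne_one hv1
          have h9 : g v = (c ^ l)⁻¹ • v := by
            conv_rhs => rw [← h8]
            rw [smul_smul, inv_mul_cancel₀ hc0, one_smul]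
          refine ⟨c * (c ^ l)⁻¹, ?_⟩
          rw [Function.iterate_succ_apply, h9, hlj, h6, smul_smul, mul_comm]
      · simp only [Function.iterate_one, Function.iterate_zero, id_eq] at h5
        refine ⟨c * (c * c), ?_⟩
        simp only [Function.iterate_succ_apply, Function.iterate_zero, id_eq]
        rw [h5, hl, hl, h5, hl, h5, smul_smul, smul_smul, mul_assoc]
    obtain ⟨c, hc⟩ := h3v
    have h5 := hgi 3 v v
    rw [hc, herm_smul_left, herm_smul_right, hv1, hq] at h5
    have h6 : g^[9] v = (c * (c * c)) • v := by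
      rw [show (9 : ℕ) = 3 + (3 + 3) from rfl, Function.iterate_add_apply, Function.iterate_add_apply, hc, hlj, hlj, hc,
        hlj, hc, smul_smul, smul_smul, mul_assoc]
    rw [h6, show c * (c * c) = 1 by linear_combination h5, one_smul]
  -- the class `k` spans `A`
  have hadd : ∀ (j : ℕ) v w, g^[j] (v + w) = g^[j] v + g^[j] w := by
    intro j
    induction j with
    | zero => exact fun v w => rfl
    | succ j ih =>
      intro v w
      rw [Function.iterate_succ_apply, ha, ih, Function.iterate_succ_apply, Function.iterate_succ_apply]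
  have hsmul : ∀ (j : ℕ) (c : F) w, g^[j] (c • w) = c • g^[j] w := by
    intro j
    induction j with
    | zero => exact fun c w => rfl
    | succ j ih => exact fun c w => by rw [Function.iterate_succ_apply, hl, ih, Function.iterate_succ_apply]
  have hfin : (∀ i, g^[9] (u i) = u i) → ∀ v ∈ A, g^[9] v = v := by
    intro hui v hv
    conv_rhs => rw [hexp v hv]
    conv_lhs => rw [hexp v hv]
    rw [hadd, hadd, hsmul, hsmul, hsmul, hui, hui, hui]
  apply hfin
  -- a vector of the class with given coordinates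
  have hmk : ∀ c : Fin 3 → F, c 0 ^ 3 + c 1 ^ 3 + c 2 ^ 3 = 1 → c 0 * c 1 * c 2 = k →
      g^[9] (∑ i, c i • u i) = ∑ i, c i • u i := by
    intro c h5 h6
    have hcA : ∑ i, c i • u i ∈ A := A.sum_mem fun i _ => A.smul_mem _ (huA i)
    refine key _ hcA ?_ ?_
    · rw [hunit _ hcA, hco, hco, hco, h5]
    · change h _ (u 0) * h _ (u 1) * h _ (u 2) = k
      rw [hco, hco, hco, h6]
  by_cases hk0 : k = 0
  · intro i
    have h5 := hmk (Pi.single i 1) (by fin_cases i <;> simp) (by rw [hk0]; fin_cases i <;> simp)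
    rw [Finset.sum_eq_single i (fun j _ hj => by rw [Pi.single_eq_of_ne hj, zero_smul])
      (fun hi => absurd (Finset.mem_univ i) hi), Pi.single_eq_same, one_smul] at h5
    exact h5
  · -- an element of order three
    obtain ⟨ω, hω⟩ : ∃ ω : F, ω ^ 2 + ω + 1 = 0 := by
      obtain ⟨ω, h0, h1⟩ : ∃ ω : F, ω ≠ 0 ∧ ω ≠ 1 := by
        classical
        by_contra hcon
        push Not at hcon
        have h5 : (Finset.univ : Finset F) ⊆ {0, 1} := by
          intro x _
          by_cases hx : x = 0
          · simp [hx]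
          · simp [hcon x hx]
        have h6 := Finset.card_le_card h5
        rw [Finset.card_univ, h4] at h6
        have h7 : ({0, 1} : Finset F).card ≤ 2 := Finset.card_le_two
        omega
      refine ⟨ω, ?_⟩
      have h5 := quad h4 h0 (one_ne_zero : (1 : F) ≠ 0) h1
      linear_combination h5
    have hω3 : ω ^ 3 = 1 := by linear_combination (ω - 1) * hω
    have hk3 := cube h4 hk0
    have f0 := hmk ![1, 1, k] (by simp; linear_combination hk3 + h2) (by simp)
    have f1 := hmk ![1, ω, k * ω ^ 2] (by simp; linear_combination (ω ^ 6) * hk3 + (ω ^ 3 + 2) * hω3 + h2)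
      (by simp; linear_combination k * hω3)
    have f2 := hmk ![1, ω ^ 2, k * ω] (by simp; linear_combination (ω ^ 3) * hk3 + (ω ^ 3 + 2) * hω3 + h2)
      (by simp; linear_combination k * hω3)
    rw [Fin.sum_univ_three] at f0 f1 f2
    simp only [Matrix.cons_val_zero, Matrix.cons_val_one, Matrix.cons_val] at f0 f1 f2
    rw [hadd, hadd, hsmul, hsmul, hsmul] at f0 f1 f2
    set a0 := g^[9] (u 0)
    set a1 := g^[9] (u 1)
    set a2 := g^[9] (u 2)
    have hneg : (-1 : F) = 1 := by linear_combination (-1) * h2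
    have hk' : k * k⁻¹ = 1 := mul_inv_cancel₀ hk0
    intro i
    fin_cases i
    · change a0 = u 0
      funext j
      have g0 := congrFun f0 j
      have g1 := congrFun f1 j
      have g2 := congrFun f2 j
      simp only [Pi.add_apply, Pi.smul_apply, smul_eq_mul] at g0 g1 g2
      linear_combination g0 + g1 + g2 - ((a1 j - u 1 j) + k * (a2 j - u 2 j)) * hω - (a0 j - u 0 j) * h2
    · change a1 = u 1
      funext j
      have g0 := congrFun f0 j
      have g1 := congrFun f1 j
      have g2 := congrFun f2 j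
      simp only [Pi.add_apply, Pi.smul_apply, smul_eq_mul] at g0 g1 g2
      linear_combination g0 + ω ^ 2 * g1 + ω * g2 - ((a0 j - u 0 j) + k * (a2 j - u 2 j)) * hω
        - 2 * (a1 j - u 1 j) * hω3 - k * (a2 j - u 2 j) * ω * hω3 - (a1 j - u 1 j) * h2
    · change a2 = u 2
      funext j
      have g0 := congrFun f0 j
      have g1 := congrFun f1 j
      have g2 := congrFun f2 j
      simp only [Pi.add_apply, Pi.smul_apply, smul_eq_mul] at g0 g1 g2
      linear_combination k⁻¹ * (g0 + ω * g1 + ω ^ 2 * g2 - (a0 j - u 0 j) * hω - (a1 j - u 1 j) * (hω + ω * hω3)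
        - 2 * k * (a2 j - u 2 j) * hω3 - k * (a2 j - u 2 j) * h2) - (a2 j - u 2 j) * hk'

end Nine

end Cfsg.Agent.H743.RC
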