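import Cfsg.Agent.H743.RC.Small

/-!
# S3510, family E, box E8: the reducible case (helper743)

An invariant nondegenerate subspace `A ≠ 0, V` gives (S1), (S2), (S5) or (S6).
-/

set_option autoImplicit false

namespace Cfsg.Agent.H743.RC

open Module Cfsg Cfsg.Agent.H380.RC Cfsg.Agent.LieClassical.HermBasic Cfsg.Agent.ClassicalGeometry.HermOrtho

variable {F : Type*} [Field F] [Fintype F] {n q : ℕ} {A : Submodule F (Fin n → F)}

local notation "h" => hermForm n F q

/-- a common singular eigenvector -/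
def SOne (q : ℕ) {ι : Type*} (f : ι → (Fin n → F) → (Fin n → F)) : Prop :=
  ∃ e : Fin n → F, e ≠ 0 ∧ hermForm n F q e e = 0 ∧ ∀ i, ∃ c : F, f i e = c • e

/-- a large invariant nondegenerate subspace -/
def STwo (q : ℕ) {ι : Type*} (f : ι → (Fin n → F) → (Fin n → F)) : Prop :=
  ∃ A : Submodule F (Fin n → F), NDeg q A ∧ A ≠ ⊤ ∧ 3 ≤ Module.finrank F A ∧
      ¬ (Module.finrank F A = 3 ∧ q = 2) ∧ ∀ i, Stab (f i) A

/-- an orthonormal frame of common eigenvectors -/
def SFive (q : ℕ) {ι : Type*} (f : ι → (Fin n → F) → (Fin n → F)) : Prop :=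
  n = 3 ∧ ∃ w : Fin 3 → (Fin n → F), (∀ i j, hermForm n F q (w i) (w j) = if i = j then 1 else 0) ∧
      ∀ i j, ∃ c : F, f i (w j) = c • w j

/-- orders dividing nine -/
def SSix (q : ℕ) {ι : Type*} (f : ι → (Fin n → F) → (Fin n → F)) : Prop := q = 2 ∧ ∀ i v, (f i)^[9] v = v

/-- a line: a unit vector which is an eigenvector -/
theorem line (hF : Fintype.card F = q ^ 2) (hA : NDeg q A) (h1 : finrank F A = 1)
    {ι : Type*} {f : ι → (Fin n → F) → (Fin n → F)} (hs : ∀ i, Stab (f i) A) :
    ∃ w ∈ A, h w w = 1 ∧ (∀ v ∈ A, v = h v w • w) ∧ ∀ i, ∃ c : F, f i w = c • w := by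
  obtain ⟨u, huA, hu⟩ := exists_orthonormal hF A hA h1
  have hexp : ∀ v ∈ A, v = h v (u 0) • u 0 := by
    intro v hv
    conv_lhs => rw [eq_sum_of_orthonormal A (by simpa using h1) huA hu hv]
    rw [Fin.sum_univ_one]
  refine ⟨u 0, huA 0, by rw [hu]; rfl, hexp, fun i => ⟨_, hexp _ (hs i _ (huA 0))⟩⟩

section Iter

variable {g : (Fin n → F) → (Fin n → F)}

theorem iter_add (ha : ∀ v w, g (v + w) = g v + g w) (j : ℕ) (v w : Fin n → F) :
    g^[j] (v + w) = g^[j] v + g^[j] w := by
  induction j generalizing v w with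
  | zero => rfl
  | succ j ih => rw [Function.iterate_succ_apply, ha, ih, Function.iterate_succ_apply, Function.iterate_succ_apply]

theorem iter_smul (hl : Lin g) (j : ℕ) (c : F) (v : Fin n → F) : g^[j] (c • v) = c • g^[j] v := by
  induction j generalizing v with
  | zero => rfl
  | succ j ih => rw [Function.iterate_succ_apply, hl, ih, Function.iterate_succ_apply]

theorem nine_of_three {v : Fin n → F} (h3 : g^[3] v = v) : g^[9] v = v := by
  rw [show (9 : ℕ) = 3 + (3 + 3) from rfl, Function.iterate_add_apply, Function.iterate_add_apply, h3, h3, h3]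

/-- the orthogonal complement is invariant -/
theorem stab_perp (hF : Fintype.card F = q ^ 2) (hi : ∀ v w, h (g v) (g w) = h v w) (hs : Stab g A)
    {m : ℕ} (hm : m.Coprime q) (hgm : ∀ v, g^[m] v = v) : Stab g (hermPerp q (A : Set (Fin n → F))) := by
  intro v hv w hw
  have hgA : ∀ (j : ℕ) v, v ∈ A → g^[j] v ∈ A := by
    intro j
    induction j with
    | zero => exact fun v hv => hv
    | succ j ih => exact fun v hv => by rw [Function.iterate_succ_apply]; exact ih _ (hs v hv)
  have hm0 : m ≠ 0 := by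
    rintro rfl
    have h2 := two_le hF
    rw [Nat.coprime_zero_left] at hm
    omega
  obtain ⟨k, rfl⟩ := Nat.exists_eq_succ_of_ne_zero hm0
  have h1 : w = g (g^[k] w) := by rw [← Function.iterate_succ_apply' g]; exact (hgm w).symm
  rw [h1, hi]
  exact hv _ (hgA k w hw)

end Iter

variable {ι : Type*} {f : ι → (Fin n → F) → (Fin n → F)}

/-- `q = 2`: on an invariant nondegenerate subspace of dimension at most three -/
theorem small_two (hF : Fintype.card F = q ^ 2) (hq : q = 2) (hl : ∀ i, Lin (f i))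
    (ha : ∀ i v w, f i (v + w) = f i v + f i w) (hi : ∀ i v w, h (f i v) (f i w) = h v w)
    (hc : ∀ i j v, f i (f j v) = f j (f i v)) (hm : ∀ i, ∃ m : ℕ, m.Coprime q ∧ ∀ v, (f i)^[m] v = v)
    (hA : NDeg q A) (h3 : finrank F A ≤ 3) (hs : ∀ i, Stab (f i) A) :
    SOne q f ∨ ∀ i, ∀ v ∈ A, (f i)^[9] v = v := by
  obtain h0 | h1 | h2 | h3 : finrank F A = 0 ∨ finrank F A = 1 ∨ finrank F A = 2 ∨ finrank F A = 3 := by omega
  · right
    intro i v hv
    rw [Submodule.finrank_eq_zero.1 h0, Submodule.mem_bot] at hv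
    have h1 := iter_smul (hl i) 9 (0 : F) (0 : Fin n → F)
    rw [zero_smul, zero_smul] at h1
    rw [hv, h1]
  · right
    obtain ⟨w, hwA, hww, hexp, hcw⟩ := line hF hA h1 hs
    intro i v hv
    obtain ⟨c, hc⟩ := hcw i
    have hw0 : h w w ≠ 0 := by rw [hww]; exact one_ne_zero
    have h4 := nine_of_three (line_three hq (hl i) (hi i) hw0 hc)
    rw [hexp v hv, iter_smul (hl i), h4]
  · rcases plane hF hl ha hi hc hA h2 hs with ⟨e, -, he0, hee, hce⟩ | ⟨w₁, -, w₂, -, h11, h22, -, -, hexp, hcw⟩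
    · exact Or.inl ⟨e, he0, hee, hce⟩
    · right
      intro i v hv
      obtain ⟨⟨c₁, hc₁⟩, c₂, hc₂⟩ := hcw i
      have h4 := nine_of_three (line_three hq (hl i) (hi i) (by rw [h11]; exact one_ne_zero) hc₁)
      have h5 := nine_of_three (line_three hq (hl i) (hi i) (by rw [h22]; exact one_ne_zero) hc₂)
      rw [hexp v hv, iter_add (ha i), iter_smul (hl i), iter_smul (hl i), h4, h5]
  · right
    intro i v hv
    obtain ⟨m, hmq, hmv⟩ := hm i
    exact nine hF hq hA h3 (hl i) (ha i) (hi i) (hs i) hmq (fun v _ => hmv v) v hv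

/-- the reducible case, `dim A ≥ dim A^⊥` -/
theorem reducible_aux (hF : Fintype.card F = q ^ 2) (hn : 3 ≤ n) (hl : ∀ i, Lin (f i))
    (ha : ∀ i v w, f i (v + w) = f i v + f i w) (hi : ∀ i v w, h (f i v) (f i w) = h v w)
    (hc : ∀ i j v, f i (f j v) = f j (f i v)) (hm : ∀ i, ∃ m : ℕ, m.Coprime q ∧ ∀ v, (f i)^[m] v = v)
    (hA : NDeg q A) (hs : ∀ i, Stab (f i) A) (h0 : A ≠ ⊥) (ht : A ≠ ⊤)
    (hle : finrank F (hermPerp q (A : Set (Fin n → F)) : Submodule F (Fin n → F)) ≤ finrank F A) :
    SOne q f ∨ STwo q f ∨ SFive q f ∨ SSix q f := by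
  set B : Submodule F (Fin n → F) := hermPerp q (A : Set (Fin n → F)) with hB
  have hBn : NDeg q B := hermPerp_nondeg hF A hA
  have hsum : finrank F A + finrank F B = n := finrank_hermPerp_of_nondeg hF A hA
  have hcompl : IsCompl A B := isCompl_hermPerp hF A hA
  have hsB : ∀ i, Stab (f i) B := by
    intro i
    obtain ⟨m, hmq, hmv⟩ := hm i
    exact stab_perp hF (hi i) (hs i) hmq hmv
  have hB0 : finrank F B ≠ 0 := by
    intro h1
    rw [Submodule.finrank_eq_zero] at h1
    rw [h1] at hcompl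
    exact ht (by simpa using hcompl.sup_eq_top)
  have hdec : ∀ v : Fin n → F, ∃ a ∈ A, ∃ b ∈ B, v = a + b := fun v => exists_add_perp hF A hA v
  by_cases hlarge : 3 ≤ finrank F A ∧ ¬ (finrank F A = 3 ∧ q = 2)
  · exact Or.inr (Or.inl ⟨A, hA, ht, hlarge.1, hlarge.2, hs⟩)
  by_cases hq : q = 2
  · -- `q = 2`
    have hA3 : finrank F A ≤ 3 := by
      by_contra hcon
      exact hlarge ⟨by omega, fun h1 => by omega⟩
    rcases small_two hF hq hl ha hi hc hm hA hA3 hs with h1 | h1
    · exact Or.inl h1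
    · rcases small_two hF hq hl ha hi hc hm hBn (hle.trans hA3) hsB with h2 | h2
      · exact Or.inl h2
      · refine Or.inr (Or.inr (Or.inr ⟨hq, fun i v => ?_⟩))
        obtain ⟨a, haA, b, hbB, rfl⟩ := hdec v
        rw [iter_add (ha i), h1 i a haA, h2 i b hbB]
  · have hA2 : finrank F A = 2 := by
      have h3 : ¬ 3 ≤ finrank F A := fun h1 => hlarge ⟨h1, fun h2 => hq h2.2⟩
      omega
    rcases plane hF hl ha hi hc hA hA2 hs with ⟨e, -, he0, hee, hce⟩ |
      ⟨w₁, hw1, w₂, hw2, h11, h22, h12, h21, hexp, hcw⟩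
    · exact Or.inl ⟨e, he0, hee, hce⟩
    obtain hB1 | hB2 : finrank F B = 1 ∨ finrank F B = 2 := by omega
    · -- `n = 3`
      obtain ⟨w, hwB, hww, hexpB, hcB⟩ := line hF hBn hB1 hsB
      have e1 : h w w₁ = 0 := hwB w₁ hw1
      have e2 : h w w₂ = 0 := hwB w₂ hw2
      have e3 : h w₁ w = 0 := herm_eq_zero_swap hF e1
      have e4 : h w₂ w = 0 := herm_eq_zero_swap hF e2
      refine Or.inr (Or.inr (Or.inl ⟨by omega, ![w₁, w₂, w], fun i j => ?_, fun i j => ?_⟩))
      · fin_cases i <;> fin_cases j <;>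
          simp only [Fin.zero_eta, Fin.mk_one, Fin.reduceFinMk, Matrix.cons_val_zero, Matrix.cons_val_one,
            Matrix.cons_val, h11, h22, h12, h21, hww, e1, e2, e3, e4] <;> rfl
      · fin_cases j
        · exact (hcw i).1
        · exact (hcw i).2
        · exact hcB i
    · -- `n = 4`: split off an eigenvector
      rcases plane hF hl ha hi hc hBn hB2 hsB with ⟨e, -, he0, hee, hce⟩ |
        ⟨w₃, hw3, w₄, hw4, h33, h44, h34, h43, hexpB, hcwB⟩
      · exact Or.inl ⟨e, he0, hee, hce⟩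
      · -- the orthogonal complement of `w₁`
        have hw10 : w₁ ≠ 0 := by
          rintro rfl
          rw [herm_zero_left] at h11
          exact zero_ne_one h11
        let L : Submodule F (Fin n → F) := F ∙ w₁
        have hL : NDeg q L := by
          intro v hv hv2
          obtain ⟨c, rfl⟩ := Submodule.mem_span_singleton.1 hv
          have h5 := hv2 w₁ (Submodule.mem_span_singleton_self w₁)
          rw [herm_smul_left, h11, mul_one] at h5
          rw [h5, zero_smul]
        have hLs : ∀ i, Stab (f i) L := by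
          intro i v hv
          obtain ⟨c, rfl⟩ := Submodule.mem_span_singleton.1 hv
          obtain ⟨d, hd⟩ := (hcw i).1
          rw [hl i, hd]
          exact L.smul_mem _ (L.smul_mem _ (Submodule.mem_span_singleton_self w₁))
        have hL1 : finrank F L = 1 := finrank_span_singleton hw10
        have hsumL : finrank F L + finrank F (hermPerp q (L : Set (Fin n → F)) : Submodule F (Fin n → F)) = n :=
          finrank_hermPerp_of_nondeg hF L hL
        refine Or.inr (Or.inl ⟨hermPerp q (L : Set (Fin n → F)), hermPerp_nondeg hF L hL, ?_, by omega,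
          fun h5 => hq h5.2, fun i => ?_⟩)
        · intro h5
          rw [h5, finrank_top, finrank_fin_fun] at hsumL
          omega
        · obtain ⟨m, hmq, hmv⟩ := hm i
          exact stab_perp hF (hi i) (hLs i) hmq hmv

/-- the reducible case -/
theorem reducible (hF : Fintype.card F = q ^ 2) (hn : 3 ≤ n) (hl : ∀ i, Lin (f i))
    (ha : ∀ i v w, f i (v + w) = f i v + f i w) (hi : ∀ i v w, h (f i v) (f i w) = h v w)
    (hc : ∀ i j v, f i (f j v) = f j (f i v)) (hm : ∀ i, ∃ m : ℕ, m.Coprime q ∧ ∀ v, (f i)^[m] v = v)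
    (hA : NDeg q A) (hs : ∀ i, Stab (f i) A) (h0 : A ≠ ⊥) (ht : A ≠ ⊤) :
    SOne q f ∨ STwo q f ∨ SFive q f ∨ SSix q f := by
  rcases le_total (finrank F (hermPerp q (A : Set (Fin n → F)) : Submodule F (Fin n → F))) (finrank F A) with hle | hle
  · exact reducible_aux hF hn hl ha hi hc hm hA hs h0 ht hle
  · set B : Submodule F (Fin n → F) := hermPerp q (A : Set (Fin n → F)) with hB
    have hBn : NDeg q B := hermPerp_nondeg hF A hA
    have hsum : finrank F A + finrank F B = n := finrank_hermPerp_of_nondeg hF A hA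
    have hsum2 : finrank F B + finrank F (hermPerp q (B : Set (Fin n → F)) : Submodule F (Fin n → F)) = n :=
      finrank_hermPerp_of_nondeg hF B hBn
    have hsB : ∀ i, Stab (f i) B := by
      intro i
      obtain ⟨m, hmq, hmv⟩ := hm i
      exact stab_perp hF (hi i) (hs i) hmq hmv
    have hA0 : finrank F A ≠ 0 := fun h1 => h0 (Submodule.finrank_eq_zero.1 h1)
    have hAn : finrank F A ≠ n := by
      intro h1
      apply ht
      apply Submodule.eq_top_of_finrank_eq
      rw [h1, finrank_fin_fun]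
    refine reducible_aux hF hn hl ha hi hc hm hBn hsB ?_ ?_ (by omega)
    · intro h1
      rw [h1, finrank_bot] at hsum
      omega
    · intro h1
      rw [h1, finrank_top, finrank_fin_fun] at hsum
      omega

end Cfsg.Agent.H743.RC
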